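import Cfsg.Agent.Comp.G24.Main
import Cfsg.Agent.Comp.MatX
import Cfsg.Agent.Comp.ChevKit
import Cfsg.Agent.S1059

set_option autoImplicit false
set_option maxRecDepth 100000

namespace Cfsg.Agent.Comp.G24
open Cfsg.Agent.Comp

def mO : List Nat := [nat_lit 16384, nat_lit 32768, nat_lit 65536, nat_lit 131072, nat_lit 262144, nat_lit 524288, nat_lit 1048576, nat_lit 2097152, nat_lit 4194304, nat_lit 8388608, nat_lit 16777216, nat_lit 33554432, nat_lit 67108864, nat_lit 134217728, nat_lit 16385, nat_lit 32770, nat_lit 65540, nat_lit 131080, nat_lit 262160, nat_lit 524320, nat_lit 1048640, nat_lit 2097280, nat_lit 4194560, nat_lit 8389120, nat_lit 16778240, nat_lit 33556480, nat_lit 67112960, nat_lit 134225920]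

def men : Lie.chevG2.Idx → ℕ := Sum.elim Fin.val fun j => 2 + j.val

theorem menum : Enum (nat_lit 14) men := by decide +kernel

theorem mxs : XS (nat_lit 14) (nat_lit 28) mO men (w4 : K4) :=
  ⟨by decide +kernel, menum, by decide +kernel, by decide +kernel⟩

def M : List (List Nat) :=
  [[nat_lit 4456457, nat_lit 1114122, nat_lit 131076, nat_lit 8, nat_lit 131088, nat_lit 1114144, nat_lit 131136, nat_lit 6259152, nat_lit 131328, nat_lit 22496068, nat_lit 4457472, nat_lit 6261012, nat_lit 183832587, nat_lit 22503508, nat_lit 4604176, nat_lit 1278020, nat_lit 196616, nat_lit 131072, nat_lit 393224, nat_lit 1638468, nat_lit 1179656, nat_lit 2851198, nat_lit 4325384, nat_lit 25576797, nat_lit 21233936, nat_lit 35291518, nat_lit 251128788, nat_lit 155338077],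
   [nat_lit 266071211, nat_lit 6326531, nat_lit 194556222, nat_lit 127446716, nat_lit 232824163, nat_lit 242786222, nat_lit 242783788, nat_lit 64744649, nat_lit 62608842, nat_lit 232819196, nat_lit 232832638, nat_lit 12384, nat_lit 6338542, nat_lit 6338156, nat_lit 82919279, nat_lit 35668354, nat_lit 131542626, nat_lit 204971618, nat_lit 179861378, nat_lit 160643554, nat_lit 200522210, nat_lit 149524335, nat_lit 113889005, nat_lit 262125442, nat_lit 41891714, nat_lit 202899456, nat_lit 228262274, nat_lit 234586498],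
   [nat_lit 36178049, nat_lit 142690471, nat_lit 178864128, nat_lit 5701980, nat_lit 195331127, nat_lit 36178080, nat_lit 178864196, nat_lit 69210240, nat_lit 200377647, nat_lit 69210624, nat_lit 160009393, nat_lit 100669472, nat_lit 67113088, nat_lit 212359813, nat_lit 542880, nat_lit 178823685, nat_lit 178875045, nat_lit 348, nat_lit 178876050, nat_lit 2208, nat_lit 179858085, nat_lit 4224, nat_lit 179990470, nat_lit 10489984, nat_lit 178644518, nat_lit 530432, nat_lit 2101248, nat_lit 168374945],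
   [nat_lit 5751917, nat_lit 5752122, nat_lit 1311052, nat_lit 8, nat_lit 4260184, nat_lit 22872371, nat_lit 4259932, nat_lit 64744649, nat_lit 1311004, nat_lit 159312682, nat_lit 22873159, nat_lit 155176589, nat_lit 5766103, nat_lit 63955642, nat_lit 21791071, nat_lit 18432351, nat_lit 4653136, nat_lit 131072, nat_lit 1507588, nat_lit 17941876, nat_lit 5636356, nat_lit 149524335, nat_lit 5439568, nat_lit 62154235, nat_lit 5031284, nat_lit 178038015, nat_lit 245498207, nat_lit 190926655],
   [nat_lit 232743641, nat_lit 19322418, nat_lit 27179790, nat_lit 18000805, nat_lit 61094672, nat_lit 251052237, nat_lit 191544167, nat_lit 27114232, nat_lit 62608842, nat_lit 226396062, nat_lit 150115125, nat_lit 189974883, nat_lit 230483398, nat_lit 6338156, nat_lit 90781565, nat_lit 78267547, nat_lit 257754746, nat_lit 201049162, nat_lit 224398992, nat_lit 247839707, nat_lit 95645098, nat_lit 253986422, nat_lit 113889005, nat_lit 211367418, nat_lit 205513674, nat_lit 151661899, nat_lit 80574195,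 nat_lit 234586498],
   [nat_lit 4587793, nat_lit 1245254, nat_lit 131084, nat_lit 8, nat_lit 131096, nat_lit 1114212, nat_lit 131144, nat_lit 6062250, nat_lit 131336, nat_lit 22103561, nat_lit 4457744, nat_lit 5081130, nat_lit 178453468, nat_lit 18179081, nat_lit 147736, nat_lit 163916, nat_lit 65544, nat_lit 131072, nat_lit 262152, nat_lit 524356, nat_lit 1048584, nat_lit 7733618, nat_lit 4194312, nat_lit 13829445, nat_lit 16777488, nat_lit 38207798, nat_lit 72739467, nat_lit 135726165],
   [nat_lit 1, nat_lit 65542, nat_lit 4, nat_lit 8, nat_lit 16, nat_lit 32, nat_lit 64, nat_lit 128, nat_lit 131336, nat_lit 512, nat_lit 263184, nat_lit 526368, nat_lit 2101376, nat_lit 90113, nat_lit 16384, nat_lit 32772, nat_lit 65536, nat_lit 131072, nat_lit 262144, nat_lit 524288, nat_lit 1048576, nat_lit 2097152, nat_lit 4194312, nat_lit 8388608, nat_lit 16777232, nat_lit 33554464, nat_lit 67108992, nat_lit 134283269],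
   [nat_lit 9, nat_lit 10, nat_lit 4, nat_lit 8, nat_lit 16, nat_lit 32, nat_lit 64, nat_lit 132, nat_lit 256, nat_lit 528, nat_lit 1024, nat_lit 2112, nat_lit 4107, nat_lit 8448, nat_lit 147456, nat_lit 163840, nat_lit 65536, nat_lit 131072, nat_lit 262144, nat_lit 524288, nat_lit 1048576, nat_lit 2162688, nat_lit 4194304, nat_lit 8650752, nat_lit 16777216, nat_lit 34603008, nat_lit 67289088, nat_lit 138412032],
   [nat_lit 131081, nat_lit 131082, nat_lit 4, nat_lit 8, nat_lit 16, nat_lit 32, nat_lit 64, nat_lit 65668, nat_lit 256, nat_lit 262672, nat_lit 1024, nat_lit 1050688, nat_lit 184323, nat_lit 4202752, nat_lit 16392, nat_lit 32776, nat_lit 65536, nat_lit 131072, nat_lit 262144, nat_lit 524288, nat_lit 1048576, nat_lit 2097156, nat_lit 4194304, nat_lit 8388624, nat_lit 16777216, nat_lit 33554496, nat_lit 67239947, nat_lit 134217984],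
   [nat_lit 262145, nat_lit 2, nat_lit 4, nat_lit 8, nat_lit 16, nat_lit 65568, nat_lit 131136, nat_lit 128, nat_lit 256, nat_lit 66052, nat_lit 132104, nat_lit 296976, nat_lit 8917028, nat_lit 17834056, nat_lit 278544, nat_lit 32768, nat_lit 65536, nat_lit 131072, nat_lit 262144, nat_lit 589828, nat_lit 1179656, nat_lit 2097152, nat_lit 4194304, nat_lit 8388612, nat_lit 16777224, nat_lit 33587218, nat_lit 75563552, nat_lit 151127104],
   [nat_lit 262161, nat_lit 2, nat_lit 4, nat_lit 8, nat_lit 16, nat_lit 65572, nat_lit 131144, nat_lit 128, nat_lit 256, nat_lit 66048, nat_lit 132096, nat_lit 296962, nat_lit 8917508, nat_lit 17835016, nat_lit 16400, nat_lit 32768, nat_lit 65536, nat_lit 131072, nat_lit 262144, nat_lit 524292, nat_lit 1048584, nat_lit 2097152, nat_lit 4194304, nat_lit 8454148, nat_lit 16908296, nat_lit 33816594, nat_lit 67699232, nat_lit 135398464],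
   [nat_lit 33, nat_lit 34, nat_lit 4, nat_lit 8, nat_lit 20, nat_lit 32, nat_lit 68, nat_lit 128, nat_lit 340, nat_lit 640, nat_lit 1059, nat_lit 2176, nat_lit 4096, nat_lit 10880, nat_lit 540672, nat_lit 557056, nat_lit 65536, nat_lit 131072, nat_lit 327680, nat_lit 524288, nat_lit 1114112, nat_lit 2097152, nat_lit 5570560, nat_lit 10485760, nat_lit 17350656, nat_lit 35651584, nat_lit 67108864, nat_lit 178257920],
   [nat_lit 524321, nat_lit 524322, nat_lit 4, nat_lit 8, nat_lit 65556, nat_lit 32, nat_lit 65600, nat_lit 128, nat_lit 1311044, nat_lit 2097792, nat_lit 574467, nat_lit 2099200, nat_lit 4096, nat_lit 41953408, nat_lit 16416, nat_lit 32800, nat_lit 65536, nat_lit 131072, nat_lit 262148, nat_lit 524288, nat_lit 1114116, nat_lit 2097152, nat_lit 4522064, nat_lit 8388736, nat_lit 17301539, nat_lit 35651712, nat_lit 67108864, nat_lit 144706048],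
   [nat_lit 1, nat_lit 1048578, nat_lit 4, nat_lit 8, nat_lit 131088, nat_lit 131112, nat_lit 64, nat_lit 786584, nat_lit 256, nat_lit 1065536, nat_lit 4195328, nat_lit 4196608, nat_lit 50337024, nat_lit 8192, nat_lit 16384, nat_lit 1081408, nat_lit 65536, nat_lit 131072, nat_lit 393224, nat_lit 524296, nat_lit 1048576, nat_lit 2752560, nat_lit 4194304, nat_lit 8405057, nat_lit 20971776, nat_lit 33554688, nat_lit 104860672, nat_lit 134217728],
   [nat_lit 1, nat_lit 1048642, nat_lit 4, nat_lit 8, nat_lit 131096, nat_lit 131104, nat_lit 64, nat_lit 786600, nat_lit 256, nat_lit 1065473, nat_lit 4195584, nat_lit 4196352, nat_lit 50338048, nat_lit 8192, nat_lit 16384, nat_lit 32832, nat_lit 65536, nat_lit 131072, nat_lit 262152, nat_lit 655368, nat_lit 1048576, nat_lit 2490416, nat_lit 4194304, nat_lit 9437249, nat_lit 16777472, nat_lit 37748992, nat_lit 88083456, nat_lit 134217728],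
   [nat_lit 257, nat_lit 2, nat_lit 12, nat_lit 8, nat_lit 16, nat_lit 96, nat_lit 64, nat_lit 386, nat_lit 256, nat_lit 1536, nat_lit 1024, nat_lit 2048, nat_lit 12288, nat_lit 8192, nat_lit 4210688, nat_lit 32768, nat_lit 196608, nat_lit 131072, nat_lit 262144, nat_lit 1572864, nat_lit 1048576, nat_lit 6324224, nat_lit 4194304, nat_lit 25165824, nat_lit 16777216, nat_lit 33554432, nat_lit 201326592, nat_lit 134217728],
   [nat_lit 4194305, nat_lit 2, nat_lit 131076, nat_lit 8, nat_lit 16, nat_lit 1048608, nat_lit 64, nat_lit 4227456, nat_lit 256, nat_lit 16777728, nat_lit 1024, nat_lit 2048, nat_lit 134221824, nat_lit 8192, nat_lit 4210944, nat_lit 32768, nat_lit 196616, nat_lit 131072, nat_lit 262144, nat_lit 1572928, nat_lit 1048576, nat_lit 2130178, nat_lit 4194304, nat_lit 25166848, nat_lit 16777216, nat_lit 33554432, nat_lit 201334784, nat_lit 134217728],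
   [nat_lit 4194561, nat_lit 2, nat_lit 131084, nat_lit 8, nat_lit 16, nat_lit 1048672, nat_lit 64, nat_lit 4227202, nat_lit 256, nat_lit 16778752, nat_lit 1024, nat_lit 2048, nat_lit 134230016, nat_lit 8192, nat_lit 16640, nat_lit 32768, nat_lit 65544, nat_lit 131072, nat_lit 262144, nat_lit 524352, nat_lit 1048576, nat_lit 6291714, nat_lit 4194304, nat_lit 8389632, nat_lit 16777216, nat_lit 33554432, nat_lit 67117056, nat_lit 134217728],
   [nat_lit 1, nat_lit 8389122, nat_lit 4, nat_lit 786584, nat_lit 2097168, nat_lit 2097312, nat_lit 8405057, nat_lit 128, nat_lit 50337024, nat_lit 512, nat_lit 67109888, nat_lit 67115008, nat_lit 4096, nat_lit 8192, nat_lit 16384, nat_lit 33280, nat_lit 65536, nat_lit 2752560, nat_lit 2359424, nat_lit 524416, nat_lit 9437697, nat_lit 2097152, nat_lit 104860672, nat_lit 8388608, nat_lit 83890176, nat_lit 33558528, nat_lit 67108864, nat_lit 134217728],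
   [nat_lit 16777217, nat_lit 16777218, nat_lit 1311044, nat_lit 8, nat_lit 4194576, nat_lit 16827424, nat_lit 4194368, nat_lit 41953408, nat_lit 256, nat_lit 134226432, nat_lit 1024, nat_lit 134219776, nat_lit 4096, nat_lit 8192, nat_lit 16794624, nat_lit 16811008, nat_lit 4522064, nat_lit 131072, nat_lit 262400, nat_lit 574467, nat_lit 5243136, nat_lit 144706048, nat_lit 4194304, nat_lit 8396800, nat_lit 16777216, nat_lit 167780352, nat_lit 67108864, nat_lit 134217728],
   [nat_lit 16778241, nat_lit 16778242, nat_lit 1310996, nat_lit 8, nat_lit 4194320, nat_lit 16826403, nat_lit 4194624, nat_lit 41951872, nat_lit 256, nat_lit 134218240, nat_lit 1024, nat_lit 134227968, nat_lit 4096, nat_lit 8192, nat_lit 17408, nat_lit 33792, nat_lit 5308496, nat_lit 131072, nat_lit 4456704, nat_lit 17302531, nat_lit 1048832, nat_lit 169871872, nat_lit 4194304, nat_lit 142614528, nat_lit 16777216, nat_lit 33562624, nat_lit 67108864, nat_lit 134217728],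
   [nat_lit 2049, nat_lit 2, nat_lit 4644, nat_lit 9288, nat_lit 2066, nat_lit 4128, nat_lit 8256, nat_lit 128, nat_lit 256, nat_lit 4608, nat_lit 9216, nat_lit 2048, nat_lit 4096, nat_lit 8192, nat_lit 33570816, nat_lit 32768, nat_lit 76087296, nat_lit 152174592, nat_lit 33849344, nat_lit 67633152, nat_lit 135266304, nat_lit 2097152, nat_lit 4194304, nat_lit 75497472, nat_lit 150994944, nat_lit 33554432, nat_lit 67108864, nat_lit 134217728],
   [nat_lit 33556481, nat_lit 2, nat_lit 8917028, nat_lit 17834056, nat_lit 33587218, nat_lit 67108896, nat_lit 134217792, nat_lit 128, nat_lit 256, nat_lit 67113472, nat_lit 134226944, nat_lit 2048, nat_lit 4096, nat_lit 8192, nat_lit 18432, nat_lit 32768, nat_lit 75563552, nat_lit 151127104, nat_lit 33818626, nat_lit 67637248, nat_lit 135274496, nat_lit 2097152, nat_lit 4194304, nat_lit 8392704, nat_lit 16785408, nat_lit 33554432, nat_lit 67108864, nat_lit 134217728],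
   [nat_lit 1, nat_lit 134225922, nat_lit 134234117, nat_lit 4194568, nat_lit 16778256, nat_lit 33556512, nat_lit 64, nat_lit 67113088, nat_lit 256, nat_lit 512, nat_lit 1024, nat_lit 2048, nat_lit 4096, nat_lit 8192, nat_lit 16384, nat_lit 40960, nat_lit 134291457, nat_lit 131328, nat_lit 263168, nat_lit 526336, nat_lit 1048576, nat_lit 2101248, nat_lit 4194304, nat_lit 8388608, nat_lit 16777216, nat_lit 33554432, nat_lit 67108864, nat_lit 134217728]]

theorem Mok : XOK (nat_lit 28) (sbs (nat_lit 14) (nat_lit 28) men (w4 : K4)) men M := mxs.mok (by decide +kernel)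

/-- the matrices of the letters -/
def Mm : ℕ → Matrix (Lie.chevG2.Idx) (Lie.chevG2.Idx) (K4) := mat 1 (sbs (nat_lit 14) (nat_lit 28) men (w4 : K4)) men M

theorem Mfast : Mm = fmat 1 (nat_lit 14) (nat_lit 28) (w4 : K4) men M :=
  (menum.std (by decide) _).mat_eq _ _

def EM : List (List Nat × List Nat) :=
  [([0], [7, 11, 16, 11]),
   ([1], [10, 13, 19, 21, 18, 12, 9]),
   ([2], [6, 11, 23, 11, 6]),
   ([3], [11, 15, 20, 11, 8]),
   ([4], [6, 11, 19, 22, 14, 11, 6]),
   ([5], [6, 10, 14, 17])]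

def RU : List (List Nat) :=
  [[6, 6],
   [7, 7],
   [8, 8],
   [9, 9],
   [10, 10],
   [11, 11],
   [12, 12],
   [13, 13],
   [14, 14],
   [15, 15],
   [16, 16],
   [17, 17],
   [18, 18],
   [19, 19],
   [20, 20],
   [21, 21],
   [22, 22],
   [23, 23]]

theorem satM : Sat Mm R := mxs.sat Mok (by decide +kernel)

theorem eqsM : ∀ e ∈ EM, ev Mm e.1 = ev Mm e.2 := mxs.eqs Mok (by decide +kernel)

theorem satU : Sat Mm RU := mxs.sat Mok (by decide +kernel)

theorem m6 : Mm 6 = Lie.chevG2.xMat K4 ⟨0, by decide⟩ (1 + w4) := by rw [Mfast]; decide +kernel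

theorem m7 : Mm 7 = Lie.chevG2.xMat K4 ⟨1, by decide⟩ 1 := by rw [Mfast]; decide +kernel

theorem m8 : Mm 8 = Lie.chevG2.xMat K4 ⟨1, by decide⟩ (1 + w4) := by rw [Mfast]; decide +kernel

theorem m9 : Mm 9 = Lie.chevG2.xMat K4 ⟨2, by decide⟩ w4 := by rw [Mfast]; decide +kernel

theorem m10 : Mm 10 = Lie.chevG2.xMat K4 ⟨2, by decide⟩ (1 + w4) := by rw [Mfast]; decide +kernel

theorem m11 : Mm 11 = Lie.chevG2.xMat K4 ⟨3, by decide⟩ 1 := by rw [Mfast]; decide +kernel

theorem m12 : Mm 12 = Lie.chevG2.xMat K4 ⟨3, by decide⟩ (1 + w4) := by rw [Mfast]; decide +kernel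

theorem m13 : Mm 13 = Lie.chevG2.xMat K4 ⟨4, by decide⟩ w4 := by rw [Mfast]; decide +kernel

theorem m14 : Mm 14 = Lie.chevG2.xMat K4 ⟨4, by decide⟩ (1 + w4) := by rw [Mfast]; decide +kernel

theorem m15 : Mm 15 = Lie.chevG2.xMat K4 ⟨6, by decide⟩ 1 := by rw [Mfast]; decide +kernel

theorem m16 : Mm 16 = Lie.chevG2.xMat K4 ⟨6, by decide⟩ w4 := by rw [Mfast]; decide +kernel

theorem m17 : Mm 17 = Lie.chevG2.xMat K4 ⟨6, by decide⟩ (1 + w4) := by rw [Mfast]; decide +kernel

theorem m18 : Mm 18 = Lie.chevG2.xMat K4 ⟨7, by decide⟩ (1 + w4) := by rw [Mfast]; decide +kernel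

theorem m19 : Mm 19 = Lie.chevG2.xMat K4 ⟨8, by decide⟩ w4 := by rw [Mfast]; decide +kernel

theorem m20 : Mm 20 = Lie.chevG2.xMat K4 ⟨8, by decide⟩ (1 + w4) := by rw [Mfast]; decide +kernel

theorem m21 : Mm 21 = Lie.chevG2.xMat K4 ⟨9, by decide⟩ 1 := by rw [Mfast]; decide +kernel

theorem m22 : Mm 22 = Lie.chevG2.xMat K4 ⟨9, by decide⟩ (1 + w4) := by rw [Mfast]; decide +kernel

theorem m23 : Mm 23 = Lie.chevG2.xMat K4 ⟨11, by decide⟩ (1 + w4) := by rw [Mfast]; decide +kernel

def X : List (List Nat) := [[6],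
[7],
[8],
[9],
[10],
[11],
[12],
[13],
[14],
[15],
[16],
[17],
[18],
[19],
[20],
[21],
[22],
[23]]

theorem hX : ∀ w ∈ X, ∃ x r t, w = [x] ∧ Mm x = Lie.chevG2.xMat K4 r t := by
  simp only [X, List.forall_mem_cons]
  exact ⟨⟨_, _, _, rfl, m6⟩, ⟨_, _, _, rfl, m7⟩, ⟨_, _, _, rfl, m8⟩, ⟨_, _, _, rfl, m9⟩, ⟨_, _, _, rfl, m10⟩, ⟨_, _, _, rfl, m11⟩, ⟨_, _, _, rfl, m12⟩, ⟨_, _, _, rfl, m13⟩, ⟨_, _, _, rfl, m14⟩, ⟨_, _, _, rfl, m15⟩, ⟨_, _, _, rfl, m16⟩, ⟨_, _, _, rfl, m17⟩, ⟨_, _, _, rfl, m18⟩, ⟨_, _, _, rfl, m19⟩, ⟨_, _, _, rfl, m20⟩, ⟨_, _, _, rfl, m21⟩, ⟨_, _, _, rfl, m22⟩, ⟨_, _, _, rfl, m23⟩, nofun⟩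

theorem iso {F : Type*} [Field F] [Fintype F] (hF : Fintype.card F = 4) :
    Nonempty (G ≃* Lie.chevG2.group F) := by
  have := simple
  have := card.1
  obtain ⟨ι⟩ := exists_k4hom F hF
  exact ⟨(pres.equiv_sub hR ι satM satU eqsM (L' := 24) (X := X) (by decide +kernel)
    (by rw [Mfast]; decide +kernel) (mem_chev _ ι hX)
    (by rw [card.2.1, S1059.result hF]; norm_num)).choose⟩

end Cfsg.Agent.Comp.G24
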