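import Cfsg.Agent.Comp.G24.Up
import Cfsg.Agent.Comp.G24.Nets

set_option autoImplicit false
set_option maxRecDepth 100000

namespace Cfsg.Agent.Comp.G24
open Cfsg.Agent.Comp

def W0 : List (List Nat) := [[0],
[1],
[2],
[3],
[4]]

noncomputable def phi : G →* Equiv.Perm ℕ := (pres.rep ok sat).choose

theorem rep : Rep s 6 416 T phi := (pres.rep ok sat).choose_spec

theorem trans : ∀ i < 416, ∃ g, phi g 0 = i :=
  rep.trans (sch := [5, 1, 0, 2, 1, 3, 2, 0, 4, 1, 5, 3, 0, 2, 1, 5, 0, 3, 4, 1, 2, 0, 1]) (by decide +kernel)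

theorem stab : (genW s W0).index = 416 ∧ ∀ g, g ∈ genW s W0 ↔ phi g 0 = 0 :=
  rep.stab_eq (by decide +kernel) (by norm_num) trans (by decide +kernel) (Top.index _ s pres.sat)

theorem orb1 : MulAction.orbit (genW (sig T) W0) 1 = Set.Ico 1 (1 + 100) ∧
    (MulAction.orbit (genW (sig T) W0) 1).ncard = 100 :=
  orbit_ivl (sch := [0, 3, 4, 1, 3, 2, 1, 3, 0, 4, 2, 1]) ok (by norm_num) (by norm_num) (by decide +kernel) (by decide +kernel)

theorem orb101 : MulAction.orbit (genW (sig T) W0) 101 = Set.Ico 101 (101 + 315) ∧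
    (MulAction.orbit (genW (sig T) W0) 101).ncard = 315 :=
  orbit_ivl (sch := [0, 1, 3, 4, 2, 3, 2, 1, 0, 3, 4, 1, 2, 3, 2, 0, 1]) ok (by norm_num) (by norm_num) (by decide +kernel) (by decide +kernel)

namespace Col

noncomputable def t0 : Tr := (Tr.node (nat_lit 0) (Tr.leaf (nat_lit 0x889087bffe012fffffffffffff86910408322520090e500a9fff8490d43fffffffff8048437fff8097ffffffffffffffffffe0128a88e48023fff0380e43ffe0568888667ffe011ffffffc0d8055868915bffffff008fffc0d7fff8488e5bfffffffff8047ffffff828ffffffffffffffffc0225974a81948021ffffff8f47ffe3d24880753ffe0100d281880bffff468114bffe2500087fffffe0594480c4bffe022fff80400420584281a407a3fff2480f40021fff4087ffffffffffffffffffe0100007ffcda07503681b40da0710))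
(Tr.node (nat_lit 1) (Tr.leaf (nat_lit 0xc8cffffffe019fffffffffe0a5cac0784031ffffff816fffe0a3cab96a402fffffffffffffe529c8b87afffe017fffffffffffffc6b92a7ffe21700bffffffffffc0b955ca53fff2b6ffffffe01782b184bffe4d726bfffc02c5e98aa869802bffffffffffffffff86a8597ffffff00affffffffff8aa7ffc029ffffffffffffffff88a0843ffe014fffffffffffff84a088bfffffffff8053ffffff8a98b80027ffffffffffffe2218898d7bfffffffff8953ffffff8298d40431ffffff886fffffff8a97ffc025ffffffffffffffff))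
(Tr.leaf (nat_lit 0x7ffffffffffffffffffffff0007ffffffffffffffffffffff0007ffffffffffffffffffffff0007ffffffffffffffffffffff0007ffffffffffffffffffffff0007ffffffffffffffffffffff0007ffffffffffffffffffffff0007ffffffffffffffffffffff0007ffffffffffffffffffffff0007ffffffffffffffffffffffc2e866c1de130fff818403bfffcae0a84039ffffffffffffe060c2d8777ffffffffffffc037fffcad05c003405b05affffffe0a8c6d04bfffffff00d7fffffe0a7cac8f78033ffffffffffffe0a6))))

noncomputable def T : Tr := t0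

def RT : List (List (List Nat)) := [
  [[nat_lit 5, nat_lit 0, nat_lit 5],
   [nat_lit 3, nat_lit 0, nat_lit 3],
   [nat_lit 4, nat_lit 0, nat_lit 4],
   [nat_lit 2, nat_lit 0, nat_lit 2],
   [nat_lit 0],
   [nat_lit 5, nat_lit 1, nat_lit 2, nat_lit 1, nat_lit 3, nat_lit 4],
   [nat_lit 3, nat_lit 2, nat_lit 3, nat_lit 2, nat_lit 3, nat_lit 2, nat_lit 3, nat_lit 2]],
  [[nat_lit 1],
   [nat_lit 4, nat_lit 1, nat_lit 4],
   [nat_lit 3, nat_lit 1, nat_lit 3]],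
  [[nat_lit 5, nat_lit 2, nat_lit 5],
   [nat_lit 1, nat_lit 2, nat_lit 1, nat_lit 2, nat_lit 1],
   [nat_lit 2],
   [nat_lit 4, nat_lit 2, nat_lit 4]],
  [[nat_lit 4, nat_lit 0, nat_lit 5, nat_lit 1, nat_lit 2, nat_lit 1],
   [nat_lit 5, nat_lit 3, nat_lit 5],
   [nat_lit 3],
   [nat_lit 0, nat_lit 3, nat_lit 0]],
  [[nat_lit 5, nat_lit 4, nat_lit 5],
   [nat_lit 4],
   [nat_lit 0, nat_lit 5, nat_lit 1, nat_lit 2, nat_lit 1, nat_lit 3]],
  [[nat_lit 1, nat_lit 2, nat_lit 1, nat_lit 3, nat_lit 4, nat_lit 0],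
   [nat_lit 5],
   [nat_lit 0, nat_lit 4, nat_lit 3, nat_lit 1, nat_lit 2, nat_lit 1]],
  [[nat_lit 3, nat_lit 4, nat_lit 3, nat_lit 4, nat_lit 3, nat_lit 4],
   [nat_lit 3, nat_lit 3],
   [nat_lit 1, nat_lit 1],
   [nat_lit 2, nat_lit 2],
   [nat_lit 0, nat_lit 0],
   [nat_lit 5, nat_lit 5],
   [nat_lit 5, nat_lit 0, nat_lit 4, nat_lit 3, nat_lit 1, nat_lit 2, nat_lit 1],
   [nat_lit 4, nat_lit 4],
   [nat_lit 3, nat_lit 5, nat_lit 3, nat_lit 5],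
   [nat_lit 4, nat_lit 1, nat_lit 2, nat_lit 3, nat_lit 2, nat_lit 3, nat_lit 1, nat_lit 2, nat_lit 3, nat_lit 2, nat_lit 3, nat_lit 1, nat_lit 2, nat_lit 3, nat_lit 2, nat_lit 3, nat_lit 1, nat_lit 2, nat_lit 3, nat_lit 2, nat_lit 3, nat_lit 1, nat_lit 2, nat_lit 3, nat_lit 2, nat_lit 3, nat_lit 4, nat_lit 1, nat_lit 2, nat_lit 3, nat_lit 2, nat_lit 3, nat_lit 1, nat_lit 2, nat_lit 3, nat_lit 2, nat_lit 3, nat_lit 1, nat_lit 2, nat_lit 3, nat_lit 2, nat_lit 3, nat_lit 1, nat_lit 2, nat_lit 3, nat_lit 2, nat_lit 3, nat_lit 1, nat_lit 2, nat_lit 3, nat_lit 2, nat_lit 3, nat_lit 4, nat_lit 1, nat_lit 2, nat_lit 3, nat_lit 2, nat_lit 3, nat_lit 1, nat_lit 2, nat_lit 3, nat_lit 2, nat_lit 3, nat_lit 1, nat_lit 2, nat_lit 3, nat_lit 2, nat_lit 3, nat_lit 1, nat_lit 2, nat_lit 3, nat_lit 2, nat_lit 3, nat_lit 1, nat_lit 2, nat_lit 3, nat_lit 2, nat_lit 3],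
   [nat_lit 5, nat_lit 1, nat_lit 5, nat_lit 1, nat_lit 5, nat_lit 1],
   [nat_lit 0, nat_lit 1, nat_lit 0, nat_lit 1, nat_lit 0, nat_lit 1, nat_lit 0, nat_lit 1, nat_lit 0, nat_lit 1]]]

def HT : List (List (Nat × Nat × Nat)) := [
  [(0, 11, 1), (0, 9, 1), (0, 10, 1), (0, 8, 1), (0, 1, 0), (1, 0, 4), (0, 22, 1)],
  [(0, 2, 0), (0, 14, 1), (0, 13, 1)],
  [(0, 18, 1), (0, 12, 0), (0, 3, 0), (0, 17, 1)],
  [(1, 0, 2), (0, 20, 1), (0, 4, 0), (0, 9, 0)],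
  [(0, 21, 1), (0, 5, 0), (1, 0, 3)],
  [(1, 0, 5), (0, 6, 0), (0, 0, 3)],
  [(0, 19, 0), (0, 4, 0), (0, 2, 0), (0, 3, 0), (0, 1, 0), (0, 6, 0), (0, 0, 2), (0, 5, 0), (0, 20, 0), (0, 24, 25), (0, 15, 1), (0, 7, 0)]]

def R : List (List Nat) :=
  [[2, 1, 5, 0, 4, 3, 1],
   [0, 0],
   [1, 1],
   [2, 2],
   [3, 3],
   [4, 4],
   [5, 5],
   [0, 1, 0, 1, 0, 1, 0, 1, 0, 1],
   [0, 2, 0, 2],
   [0, 3, 0, 3],
   [0, 4, 0, 4],
   [0, 5, 0, 5],
   [1, 2, 1, 2, 1, 2],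
   [1, 3, 1, 3],
   [1, 4, 1, 4],
   [1, 5, 1, 5, 1, 5],
   [2, 3, 2, 3, 2, 3, 2, 3, 2, 3, 2, 3, 2, 3, 2, 3],
   [2, 4, 2, 4],
   [2, 5, 2, 5],
   [3, 4, 3, 4, 3, 4],
   [3, 5, 3, 5],
   [4, 5, 4, 5],
   [0, 3, 2, 3, 2, 3, 2, 3, 2],
   [0, 1, 2, 5, 0, 1, 2, 5, 0, 1, 2, 5, 0, 1, 2, 5, 0, 1, 2, 5],
   [1, 2, 3, 2, 3, 1, 2, 3, 2, 3, 1, 2, 3, 2, 3, 1, 2, 3, 2, 3, 1, 2, 3, 2, 3, 4, 1, 2, 3, 2, 3, 1, 2, 3, 2, 3, 1, 2, 3, 2, 3, 1, 2, 3, 2, 3, 1, 2, 3, 2, 3, 4, 1, 2, 3, 2, 3, 1, 2, 3, 2, 3, 1, 2, 3, 2, 3, 1, 2, 3, 2, 3, 1, 2, 3, 2, 3, 4]]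

def W : List (List Nat) := []

noncomputable def P : Par := ⟨T, (nat_lit 4), (nat_lit 15), (nat_lit 104), (nat_lit 13), (nat_lit 8191), (nat_lit 6), (nat_lit 63), (nat_lit 6), (nat_lit 17), (nat_lit 64), (nat_lit 0x398a418820), RT⟩

noncomputable def J0 : List Nat := [
  nat_lit 0x204b0020c44b0022c44b0022c505b4b0031c41841041041041846f0022c4530022c411bc008711a65b0042c589180033c5184144118e0035c599180031c410616580087105297a0032c417e4a000c711380033c59e0022c610468800d715b80093104630022c410614a70011312ac009318410410410418410415a61800d7106b9780032c4184105697a0035c558000cb1b25e000c710418411ca0035c568000c3105860022c709980031c418529760032c6104104104104cf0020c61041044f000cf10548000cb122c008b1847f0021c4c30021c41e9281e9484a07a4a07a521281e9281e9281e9481e87a4a07a5207a1e9281e9481e9281e9484a07a4a07a521281e928013a710410418417a55800cb1,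
  nat_lit 0x10410418410412ec008b10412ec0087114e0032c4104930022c410417a53800df16e80093104104184d3000d3104184104115c0033c410410610455800c710410410610410418410471800d310410410611ca0034c4b70024c6104af0022c4af0021c414a0179180002af184106da980033c41a65a0a60018b15e1280006ac4104184b30021c41a659800cb104104184116a0032c698a65a00065c41041061a66a800c718e4e000c3105b8000c3104184d7000cf19652000cb1041061041,
  nat_lit 0x269480030c410410617a5b800c719e00031c410610410ca001231a200030c410759d92800060c5b8000c3184329b800183106104104135c0032c608000c31041041844e07a00076c41844e00014710708000c31be965200018316e72800c71041041041041041041041041041041041041041041041041041041041041041041041041041041041041041041041041041041041]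

theorem c0 : chk T (nat_lit 4) (nat_lit 15) (nat_lit 104) (nat_lit 13) (nat_lit 8191) (nat_lit 6) (nat_lit 63) (nat_lit 6) (nat_lit 17) (nat_lit 64) (nat_lit 0x398a418820) (nat_lit 4) (nat_lit 15) RT (nat_lit 16) J0 (nat_lit 16) = true := by
  decide +kernel

theorem r0 : P.RowsOK 16 64 := chk_sound P _ _ _ J0 _ _ (by decide +kernel) c0

theorem index.{u} : IndexLe.{u} 6 R W 1 :=
  indexLe_of_cert P HT (by decide +kernel)
    (show P.RowsOK 16 64 from r0)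

end Col

theorem card : Finite G ∧ Nat.card G = 251596800 ∧ Function.Injective phi :=
  rep.card_eq up low

def primT : List (List Nat × List Nat) :=
  [([5, 1, 2, 3, 2, 1, 5], [0, 1, 4, 5, 2, 4, 3, 2, 4, 1, 5, 3, 0, 1, 4, 2, 1, 2]),
   ([5], [0, 2, 1, 3, 2, 4, 3, 0, 5, 2, 4, 1, 0, 3, 2, 0, 4, 5, 1, 3, 2, 4, 3, 2])]

theorem prim_0 : Nat.beq (grow T ([5, 1, 2, 3, 2, 1, 5] :: W0) [0, 1, 4, 5, 2, 4, 3, 2, 4, 1, 5, 3, 0, 1, 4, 2, 1, 2] (pt (nat_lit 0))) (ivl (nat_lit 0) (nat_lit 416)) = true := by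
  decide +kernel

theorem prim_1 : Nat.beq (grow T ([5] :: W0) [0, 2, 1, 3, 2, 4, 3, 0, 5, 2, 4, 1, 0, 3, 2, 0, 4, 5, 1, 3, 2, 4, 3, 2] (pt (nat_lit 0))) (ivl (nat_lit 0) (nat_lit 416)) = true := by
  decide +kernel

theorem prim : Prim (gen (sig T) 6) 0 :=
  prim_of_cert (W := W0) (ts := primT) (sch := [0, 1, 3, 4, 3, 2, 1, 3, 0, 4, 2, 1, 0, 2, 3, 1, 2, 0, 1, 3, 0, 4, 1, 2, 0, 1]) ok (ok.genW_le _) (by norm_num) (genW_le_gen (by decide +kernel)) (by decide +kernel)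
    (fun t ht => ev_mem fun x hx => letter_mem_gen ((by decide +kernel : ∀ t ∈ primT, ∀ x ∈ t.1, x < 6) t ht x hx)) (by decide +kernel)
    (by simp only [primT, List.forall_mem_cons]; exact ⟨prim_0, prim_1, by simp⟩)

def XP : List (List Nat) := [[2, 1, 5, 0, 4, 3, 1, 2, 1, 5, 0, 4, 3, 1, 2, 1, 5, 0, 4, 3, 1, 2, 1, 5, 0, 4, 3, 1, 2, 1, 5, 0, 4, 3, 1, 2, 1, 5, 0, 4, 3, 1, 2, 1, 5, 0, 4, 3, 1, 2, 1, 5, 0, 4, 3, 1, 2, 1, 5, 0, 4, 3, 1, 2, 1, 5, 0, 4, 3, 1, 2, 1, 5, 0, 4, 3, 1, 2, 1, 5, 0, 4, 3, 1, 2, 1, 5, 0, 4, 3, 1]]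

theorem satX : Sat (sig T) XP :=
  sat_of_relsP ok (by norm_num) (show relsP (nat_lit 416) (nat_lit 9) (nat_lit 0) (nat_lit 9) T XP = true by decide +kernel)

theorem simple : IsSimpleGroup G :=
  rep.simple (m := 604800) (p := 13) (X := [[2, 1, 5, 0, 4, 3, 1]]) card.2.2 (by norm_num) (by norm_num) trans prim card.2.1 (by norm_num) pres.sat
    Col.index (by decide +kernel) (by decide +kernel) (satX.mono (by decide +kernel))


end Cfsg.Agent.Comp.G24
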